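import Cfsg.Agent.H468.K6.Tools
import Cfsg.Agent.H166.K6.WtCyc

/-!
# S4876: tools for the sporadic rows, III (helper468)

Weight from the inertial index of `C(x) / ⟨x⟩`, when `|C(x)|` is not divisible by `p ^ 3`.
-/

set_option autoImplicit false

open Cfsg

namespace Cfsg.Agent.H468.K6

open Cfsg.Agent.H61.K6
open Subgroup

universe u v w

theorem hcyc_of {p : ℕ} [hp : Fact p.Prime] {X : Type v} [Group X] [Finite X] {x : X} (hx : orderOf x = p)
    (hC : ¬ p ^ 3 ∣ Nat.card ↥(centralizer ({x} : Set X))) (Q : Subgroup X) (hQ : IsPGroup p Q)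
    (hQx : ∀ h ∈ Q, h * x = x * h) : ∃ g ∈ Q, ∀ h ∈ Q, ∃ i k : ℤ, h = g ^ i * x ^ k := by
  have hcomm : ∀ (a : ↥Q) (b : ↥(zpowers x)), Commute (Q.subtype a) ((zpowers x).subtype b) := by
    rintro ⟨a, ha⟩ ⟨_, k, rfl⟩
    exact (show Commute a x from hQx a ha).zpow_right k
  set R := (MonoidHom.noncommCoprod Q.subtype (zpowers x).subtype hcomm).range with hR
  have hRp : IsPGroup p R := by
    refine IsPGroup.of_surjective (G := ↥Q × ↥(zpowers x)) ?_
      (MonoidHom.noncommCoprod Q.subtype (zpowers x).subtype hcomm).rangeRestrict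
      (MonoidHom.rangeRestrict_surjective _)
    have h1 : IsPGroup p ↥(zpowers x) := IsPGroup.of_card (n := 1) (by rw [Nat.card_zpowers, hx, pow_one])
    intro ⟨a, b⟩
    obtain ⟨m, hm⟩ := hQ a
    obtain ⟨n, hn⟩ := h1 b
    refine ⟨m + n, Prod.ext ?_ ?_⟩
    · show a ^ p ^ (m + n) = 1
      rw [pow_add, pow_mul, hm, one_pow]
    · show b ^ p ^ (m + n) = 1
      rw [add_comm, pow_add, pow_mul, hn, one_pow]
  have hQR : Q ≤ R := fun a ha => ⟨(⟨a, ha⟩, 1), by simp⟩
  have hxR : zpowers x ≤ R := fun a ha => ⟨(1, ⟨a, ha⟩), by simp⟩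
  have hRC : R ≤ centralizer ({x} : Set X) := by
    rintro _ ⟨⟨⟨a, ha⟩, ⟨_, k, rfl⟩⟩, rfl⟩
    rw [mem_centralizer_singleton_iff]
    exact ((show Commute a x from hQx a ha).mul_left ((Commute.refl x).zpow_left k)).eq
  have hRc : Nat.card R ∣ p ^ 2 := by
    obtain ⟨n, hn⟩ := IsPGroup.iff_card.1 hRp
    have h2 := Subgroup.card_dvd_of_le hRC
    rw [hn] at h2 ⊢
    refine pow_dvd_pow p ?_
    by_contra h3
    exact hC ((pow_dvd_pow p (by omega)).trans h2)
  by_cases h : Q ≤ zpowers x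
  · refine ⟨1, Q.one_mem, fun a ha => ?_⟩
    obtain ⟨k, hk⟩ := h ha
    exact ⟨0, k, by rw [zpow_zero, one_mul]; exact hk.symm⟩
  · obtain ⟨g, hg, hgx⟩ := SetLike.not_le_iff_exists.1 h
    refine ⟨g, hg, ?_⟩
    have hc2 : ∀ (a : ↥(zpowers g)) (b : ↥(zpowers x)), Commute ((zpowers g).subtype a) ((zpowers x).subtype b) := by
      rintro ⟨_, i, rfl⟩ ⟨_, k, rfl⟩
      exact ((show Commute g x from hQx g hg).zpow_right k).zpow_left i
    set S := (MonoidHom.noncommCoprod (zpowers g).subtype (zpowers x).subtype hc2).range with hS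
    have hgS : g ∈ S := ⟨(⟨g, mem_zpowers g⟩, 1), by simp⟩
    have hxS : zpowers x ≤ S := fun a ha => ⟨(1, ⟨a, ha⟩), by simp⟩
    have hSR : S ≤ R := by
      rintro _ ⟨⟨⟨_, i, rfl⟩, ⟨_, k, rfl⟩⟩, rfl⟩
      exact mul_mem (zpow_mem (hQR hg) i) (hxR (zpow_mem (mem_zpowers x) k))
    have hSc : Nat.card S ∣ p ^ 2 := (Subgroup.card_dvd_of_le hSR).trans hRc
    have hS2 : Nat.card S = p ^ 2 := by
      obtain ⟨n, hn, hn'⟩ := (Nat.dvd_prime_pow hp.out).1 hSc
      have h4 : p ∣ Nat.card S := by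
        have := Subgroup.card_dvd_of_le hxS
        rwa [Nat.card_zpowers, hx] at this
      have h5 : Nat.card S ≠ p := by
        intro h6
        have h7 : zpowers x = S := eq_of_le_of_card_ge hxS (by rw [h6, Nat.card_zpowers, hx])
        exact hgx (h7 ▸ hgS)
      have h6 : n ≠ 0 := by
        rintro rfl
        rw [hn', pow_zero] at h4
        exact hp.out.one_lt.ne' (Nat.dvd_one.1 h4)
      have h7 : n ≠ 1 := by
        rintro rfl
        exact h5 (by rw [hn', pow_one])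
      have h8 : n = 2 := by omega
      rw [hn', h8]
    have hRS : R = S := by
      refine (eq_of_le_of_card_ge hSR ?_).symm
      rw [hS2]
      exact Nat.le_of_dvd (pow_pos hp.out.pos 2) hRc
    intro a ha
    have ha' : a ∈ S := hRS ▸ hQR ha
    obtain ⟨⟨⟨_, i, rfl⟩, ⟨_, k, rfl⟩⟩, h9⟩ := ha'
    exact ⟨i, k, h9.symm⟩

/-- **Weight from the inertial index**: `x` of order `p`, `y` a further `p`-element of `C(x)` of order `p`, `c ∈ C(x)` with
`c y c⁻¹ = y ^ j`, `|C(x)|` not divisible by `p ^ 3`: the weight is at least the order of `j` mod `p`. -/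
theorem wtGe_cyc {p : ℕ} [hp : Fact p.Prime] {X : Type v} [Group X] [Finite X] {x y c : X} (hx : orderOf x = p)
    (hC : ¬ p ^ 3 ∣ Nat.card ↥(centralizer ({x} : Set X))) (hy : orderOf y = p) (hyx : y * x = x * y)
    (hcx : c * x = x * c) (hyn : y ∉ zpowers x) {j : ℕ} (hc : c * y * c⁻¹ = y ^ j) :
    WtGe.{u, v} p x (orderOf (j : ZMod p)) :=
  H166.K6.wtGe_of_cyc ⟨1, by rw [hx, pow_one]⟩ hyx hcx ⟨1, by rw [hy, pow_one]⟩ hyn hc (hcyc_of hx hC)

end Cfsg.Agent.H468.K6
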