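import Cfsg.Agent.H468.K6.ToolsB
import Cfsg.Agent.H468.K6.ToolsC
import Cfsg.Agent.H80.K6.Crit
import Cfsg.Agent.H842.SevenSyl
import Cfsg.Agent.S1698

/-!
# S4876, `p = 7`: the row of `Fi24'` (helper468)

`y7` (class 7A, centralizer `7 × A₇`, weight 3), `c` (class 7B, weight 2).
-/

set_option autoImplicit false
set_option maxRecDepth 100000

open Cfsg

namespace Cfsg.Agent.H468.K6.Fi

open Cfsg.Agent.H61.K6 Cfsg.Agent.H80.K6 Cfsg.Agent.H468.K6
open Subgroup Equiv
open Cfsg.Agent.Fischer.Fi24RepDef Cfsg.Agent.Fischer.Fi24Rep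
open Cfsg.Agent.H842.Seven Cfsg.Agent.H842.SevenSyl
open Cfsg.Spor (Fi24 Fi24')

universe u v

theorem mem_comm {x : Fi24} {n : ℕ} (hn : Odd n) (h : x ^ n = 1) : x ∈ commutator Fi24 := by
  have hi : (commutator Fi24).index = 2 := Fischer.Fi24Final.index_commutator
  have h1 : (QuotientGroup.mk x : Fi24 ⧸ commutator Fi24) ^ n = 1 := by
    rw [← QuotientGroup.mk_pow, h, QuotientGroup.mk_one]
  have h2 : orderOf (QuotientGroup.mk x : Fi24 ⧸ commutator Fi24) ∣ 2 := by
    rw [← hi, Subgroup.index_eq_card]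
    exact orderOf_dvd_natCard _
  have h3 : orderOf (QuotientGroup.mk x : Fi24 ⧸ commutator Fi24) ∣ n := orderOf_dvd_of_pow_eq_one h1
  have h4 : Nat.Coprime 2 n := (Nat.coprime_two_left).2 hn
  have h5 := Nat.eq_one_of_dvd_coprimes h4 h2 h3
  rw [orderOf_eq_one_iff] at h5
  exact (QuotientGroup.eq_one_iff x).1 h5

/-- the 7-cycle -/
def sg : Perm (Fin 7) := swap 0 1 * (swap 1 2 * (swap 2 3 * (swap 3 4 * (swap 4 5 * swap 5 6))))

/-- multiplication by 2 -/
def mu : Perm (Fin 7) where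
  toFun i := 2 * i
  invFun i := 4 * i
  left_inv := by decide
  right_inv := by decide

theorem mu_sg : mu * sg = sg ^ 2 * mu := by decide +kernel

theorem mu_pow : mu ^ 3 = 1 := by decide +kernel

noncomputable def m0 : Fi24 := Psi mu

theorem m0_pow : m0 ^ 3 = 1 := by rw [m0, ← map_pow, mu_pow, map_one]

theorem m0_c : m0 * c * m0⁻¹ = c ^ 2 := by
  have h : m0 * c = c ^ 2 * m0 := by
    rw [c_eq, m0, ← map_mul, ← map_pow, ← map_mul]
    exact congrArg Psi mu_sg
  rw [h, mul_inv_cancel_right]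

theorem m0_y7 : m0 * y7 = y7 * m0 := (y7_Psi mu).eq

noncomputable def r0 : Fi24 := t6 ^ 2

theorem r0_pow : r0 ^ 3 = 1 := by rw [r0, ← pow_mul]; exact t6_pow

theorem r0_c : r0 * c = c * r0 := by
  rw [c_eq, r0]
  exact ((t6_Psi _).pow_left 2).eq

theorem r0_y7 : r0 * y7 * r0⁻¹ = y7 ^ 9 := by
  have h1 : r0 * y7 * r0⁻¹ = t6 * (t6 * y7 * t6⁻¹) * t6⁻¹ := by
    rw [r0, pow_two]; group
  rw [h1, t6_y7, ← conj_pow, t6_y7, ← pow_mul]

theorem y7_order : orderOf y7 = 7 := by
  have : Fact (Nat.Prime 7) := ⟨by norm_num⟩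
  exact orderOf_eq_prime y7_pow y7_ne

theorem c_order : orderOf c = 7 := by
  have : Fact (Nat.Prime 7) := ⟨by norm_num⟩
  exact orderOf_eq_prime c_pow c_ne

/-- the elements of `Fi24'` -/
noncomputable def yy : Fi24' := ⟨y7, mem_comm (n := 7) (by decide) y7_pow⟩
noncomputable def cc : Fi24' := ⟨c, mem_comm (n := 7) (by decide) c_pow⟩
noncomputable def uu : Fi24' := ⟨u, mem_comm (n := 7) (by decide) u_pow⟩
noncomputable def mm : Fi24' := ⟨m0, mem_comm (n := 3) (by decide) m0_pow⟩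
noncomputable def rr : Fi24' := ⟨r0, mem_comm (n := 3) (by decide) r0_pow⟩

theorem yy_order : orderOf yy = 7 := by rw [← Subgroup.orderOf_coe]; exact y7_order

theorem cc_order : orderOf cc = 7 := by rw [← Subgroup.orderOf_coe]; exact c_order

theorem finite_fi : Finite Fi24' := by
  have := Cfsg.Agent.R08.FiTwentyFour.finite_Fi24
  exact inferInstanceAs (Finite ↥(commutator Fi24))

theorem not_dvd_yy : ¬ 7 ^ 3 ∣ Nat.card ↥(centralizer ({yy} : Set Fi24')) := by
  have hfin := Cfsg.Agent.R08.FiTwentyFour.finite_Fi24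
  intro h
  let f : ↥(centralizer ({yy} : Set Fi24')) →* ↥(centralizer ({y7} : Set Fi24)) :=
    { toFun := fun g => ⟨((g : Fi24') : Fi24), by
        rw [mem_centralizer_singleton_iff]
        exact congrArg Subtype.val (mem_centralizer_singleton_iff.1 g.2)⟩
      map_one' := rfl
      map_mul' := fun _ _ => rfl }
  have hf : Function.Injective f := fun a b h => by
    apply Subtype.ext
    apply Subtype.ext
    have h1 := congrArg Subtype.val h
    exact h1
  have h1 : Nat.card ↥(centralizer ({yy} : Set Fi24')) ∣ Nat.card ↥(centralizer ({y7} : Set Fi24)) :=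
    Subgroup.card_dvd_of_injective f hf
  have h2 := (h.trans h1).trans card_cent_y7
  revert h2
  norm_num

theorem cc_not_mem : cc ∉ zpowers yy := by
  rintro ⟨i, hi⟩
  have h1 : y7 ^ i = c := by
    have := congrArg Subtype.val hi
    exact this
  have h2 : Commute (y7 ^ i) (gen .l) := (show Commute y7 (gen .l) from y7_t 0).zpow_left i
  rw [h1] at h2
  exact not_comm_c (Cfsg.Agent.R08.FiTwentyFour.gen_mem_L .l) h2.eq

theorem ord_two : orderOf ((2 : ℕ) : ZMod 7) = 3 := by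
  have h3 : Fact (Nat.Prime 3) := ⟨by norm_num⟩
  have h1 : ((2 : ℕ) : ZMod 7) ^ 3 = 1 := rfl
  refine orderOf_eq_prime h1 ?_
  intro h
  have h2 : (2 : ZMod 7) ≠ 1 := by decide
  exact h2 (by exact_mod_cast h)

theorem wt_y : WtGe.{u, 0} 7 yy 3 := by
  have h7 : Fact (Nat.Prime 7) := ⟨by norm_num⟩
  have := finite_fi
  have h := wtGe_cyc.{u, 0} (x := yy) (y := cc) (c := mm) (j := 2) yy_order not_dvd_yy cc_order
    (Subtype.ext c_y7) (Subtype.ext m0_y7) cc_not_mem (Subtype.ext m0_c)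
  rwa [ord_two] at h

theorem wt_c : WtGe.{u, 0} 7 cc 2 := by
  have h7 : Fact (Nat.Prime 7) := ⟨by norm_num⟩
  refine (epsGe_two_of (x := cc) (v := yy) (h := rr) (Subtype.ext c_y7.symm) (Subtype.ext r0_c) yy_order 9
    (Subtype.ext r0_y7) ?_).wtGe
  intro h
  have h1 : yy ^ 8 = 1 := by
    have h2 : yy ^ 8 * yy = 1 * yy := by rw [one_mul, ← pow_succ]; exact h
    exact mul_right_cancel h2
  have h3 := orderOf_dvd_of_pow_eq_one h1
  rw [yy_order] at h3
  omega

theorem datF : H842.Heis.Dat 7 yy cc uu where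
  hp := by norm_num
  yp := Subtype.ext y7_pow
  cp := Subtype.ext c_pow
  up := Subtype.ext u_pow
  c1 := fun h => c_ne (congrArg Subtype.val h)
  cy := Subtype.ext c_y7
  cu := Subtype.ext u_c.symm
  uy := Subtype.ext u_y7

theorem dvd_cc : 7 ^ 3 ∣ Nat.card ↥(centralizer ({cc} : Set Fi24')) := by
  rw [← datF.card_P]
  refine Subgroup.card_dvd_of_le ?_
  rintro _ ⟨k, i, j, rfl⟩
  rw [mem_centralizer_singleton_iff]
  have h1 : Commute uu cc := datF.cu.symm
  have h2 : Commute yy cc := datF.cy.symm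
  exact (((h1.pow_left k).mul_left (h2.pow_left i)).mul_left ((Commute.refl cc).pow_left j)).eq

theorem krow : KRow.{u, 0} 7 Fi24' := by
  have h7 : Fact (Nat.Prime 7) := ⟨by norm_num⟩
  have hfin := finite_fi
  have hs : IsSimpleGroup Fi24' := Cfsg.Agent.S1698.result.1
  refine krow_two (a := yy) (b := cc)
    (not_compl_of_card Cfsg.Agent.S1698.result.2 (by norm_num) (by norm_num) (by norm_num))
    (el_of_prime h7.out yy_order) (el_of_prime h7.out cc_order)
    (ne_of_card ?_) wt_y wt_c (by norm_num)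
  intro h
  have h1 := dvd_cc
  rw [← h] at h1
  exact not_dvd_yy h1

/-- **`Fi24'`, `p = 7`.** -/
theorem _root_.Cfsg.Agent.H468.K6.fi24_seven {X : Type v} [Group X] (h : Spor.IsoFi24' X) : KRow.{u, v} 7 X := by
  obtain ⟨e⟩ := h
  exact KRow.congr e.symm krow

end Cfsg.Agent.H468.K6.Fi
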