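import Cfsg.Agent.H404.K6.CritE
import Cfsg.Agent.BpSevenCo.Conj

/-!
# S4876, `p = 7`: the row of `Co1` (helper468)

`y` and `x` of order 7 commute, `t` of order 3 commutes with `y` and `t x t⁻¹ = x²`.
-/

set_option autoImplicit false

open Cfsg

namespace Cfsg.Agent.H468.K6

open Cfsg.Agent.H61.K6 Cfsg.Agent.H404.K6

universe u v

theorem card_co1 : Nat.card Spor.Co1 = 4157776806543360000 := Cfsg.Agent.S0399.result.2

theorem inert_co1 : Inert 7 BpSevenCo.Conj.y BpSevenCo.Conj.x BpSevenCo.Conj.t 2 3 where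
  card := by rw [card_co1]; norm_num
  ox := BpSevenCo.Conj.orderOf_y
  oy := BpSevenCo.Conj.orderOf_x
  comm := BpSevenCo.Conj.comm_xy.symm
  nmem := by
    intro h
    apply BpSevenCo.Conj.y_notMem
    have h1 : Subgroup.zpowers BpSevenCo.Conj.x = Subgroup.zpowers BpSevenCo.Conj.y := by
      have := BpSevenCo.Conj.finite_co1
      refine Subgroup.eq_of_le_of_card_ge (by rw [Subgroup.zpowers_le]; exact h) ?_
      rw [Nat.card_zpowers, Nat.card_zpowers, BpSevenCo.Conj.orderOf_x, BpSevenCo.Conj.orderOf_y]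
    rw [h1]
    exact Subgroup.mem_zpowers _
  hx := BpSevenCo.Conj.comm_ty
  hy := BpSevenCo.Conj.txt1
  ord := by
    intro i h0 h3
    interval_cases i <;> decide

/-- **`Co1`, `p = 7`.** -/
theorem co1_seven {X : Type v} [Group X] (h : Spor.IsoCo1 X) : KRow.{u, v} 7 X := by
  obtain ⟨e⟩ := h
  exact KRow.congr e.symm (KRow.of_inertial.{u, 0} inert_co1 (Or.inr ⟨rfl, by norm_num⟩))

end Cfsg.Agent.H468.K6
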