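import Cfsg.Agent.H468.K6.Tools
import Cfsg.Agent.CpAutHNFive.Main
import Cfsg.Agent.H525.RO.HnElt
import Cfsg.Agent.S0204
import Cfsg.Agent.S0205

/-!
# S4876, `p = 5`: the row of the Harada-Norton group (helper468)

`X5` (a 5-cycle of `A₁₂`, class 5A), `ψ w1` (class 5B) and an element of order 25.
-/

set_option autoImplicit false
set_option maxRecDepth 100000

open Cfsg

namespace Cfsg.Agent.H468.K6.HN

open Cfsg.Agent.H61.K6 Cfsg.Agent.H121.K6 Cfsg.Agent.H468.K6
open Cfsg.Agent.HN.Pres Cfsg.Agent.HN.H0Basic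
open Cfsg.Agent.HN.P1408 hiding ψ
open Cfsg.Agent.HN.NormalH (ψ)
open Cfsg.Agent.CpAutHNFive.HTab Cfsg.Agent.CpAutHNFive.HFacts Cfsg.Agent.CpAutHNFive.TauFive Cfsg.Agent.CpAutHNFive.Main
open Cfsg.Agent.KFacts.HN
open Subgroup

universe u v

theorem FT : ∀ (K : Type) [Group K] [Finite K], Odd (Nat.card K) → Group.IsSolvable K := fun _ _ _ h => S0205.result h

theorem h204 : ∀ (K : Type) [Group K] [Finite K] [IsSimpleGroup K], ¬ IsCyclic K → ∃ E : Subgroup K, IsKleinFour E :=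
  fun _ _ _ _ h => S0204.result h

theorem card_hn : Nat.card Spor.HN = 273030912000000 := Cfsg.Agent.S1701.result.2

theorem finite_hn : Finite Spor.HN := Nat.finite_of_card_ne_zero (by rw [card_hn]; norm_num)

/-! ### `w1` -/

/-- conjugating word -/
def wg' : List ℕ := [0, 4, 3, 0, 3, 0, 3, 1, 2, 4, 2, 1, 2]

/-- a conjugate of `c` commuting with `w1` -/
def wy : List ℕ := iw wg' ++ (wc ++ wg')

theorem y_comm : hw wy * hw w1 = hw w1 * hw wy := comm_of (by decide +kernel)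

theorem y_five : hw wy ^ 5 = 1 := pow_one_of (by decide +kernel)

theorem y_ne : hw wy ≠ 1 := by
  rw [← hw_nil]
  exact hw_ne (p := 3) (by decide +kernel) (by decide) (by norm_num) (by decide +kernel)

theorem n_comm : hw (wq ++ wq) * hw w1 = hw w1 * hw (wq ++ wq) := comm_of (by decide +kernel)

theorem nyn : hw (wq ++ wq) * hw wy * (hw (wq ++ wq))⁻¹ = (hw wy)⁻¹ := by
  have h1 : hw (wq ++ wq) * hw wy = hw wy ^ 4 * hw (wq ++ wq) := by
    rw [← hw_rp, ← hw_append, ← hw_append]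
    exact eq_of_tr finite_H0 card_H0.le (by decide +kernel)
  rw [h1, mul_inv_cancel_right, eq_inv_iff_mul_eq_one, ← pow_succ, y_five]

theorem order_b : orderOf (ψ (hw w1)) = 5 := by rw [orderOf_injective _ emb.inj, order_w1]

theorem wt_b : wt 5 (ψ (hw w1)) = 2 := by
  have := finite_hn
  refine wt_eq_two_of_inv Nat.prime_five (by norm_num) (k := 1) (y := ψ (hw wy)) (n := ψ (hw (wq ++ wq))) ?_ ?_ ?_ ?_ ?_
  · rw [← map_mul, y_comm, map_mul]
  · rw [← map_mul, n_comm, map_mul]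
  · rw [pow_one, ← map_pow, y_five, map_one]
  · intro h
    exact y_ne (emb.inj (by rw [h, map_one]))
  · rw [← map_mul, ← map_inv, ← map_mul, nyn, map_inv]

/-! ### `X5` -/

/-- a 5-cycle -/
def p5 : Equiv.Perm (Fin 7) := ⟨![1, 2, 3, 4, 0, 5, 6], ![4, 0, 1, 2, 3, 5, 6], by decide, by decide⟩

/-- an involution inverting it -/
def i5 : Equiv.Perm (Fin 7) := ⟨![0, 4, 3, 2, 1, 5, 6], ![0, 4, 3, 2, 1, 5, 6], by decide, by decide⟩

def P5 : alternatingGroup (Fin 7) := ⟨p5, by rw [Equiv.Perm.mem_alternatingGroup]; decide +kernel⟩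

def I5 : alternatingGroup (Fin 7) := ⟨i5, by rw [Equiv.Perm.mem_alternatingGroup]; decide +kernel⟩

theorem P5_pow : P5 ^ 5 = 1 := Subtype.ext (by
  show p5 ^ 5 = 1
  decide +kernel)

theorem P5_ne : P5 ≠ 1 := fun h => absurd (congrArg Subtype.val h) (by
  show ¬ p5 = 1
  decide +kernel)

theorem P5_inv : I5 * P5 * I5⁻¹ = P5⁻¹ := Subtype.ext (by
  show i5 * p5 * i5⁻¹ = p5⁻¹
  decide +kernel)

theorem wt_a : wt 5 X5 = 2 := by
  have := finite_hn
  have hc : ∀ s, (jj s : Spor.HN) * X5 = X5 * jj s := fun s => mem_centralizer_singleton_iff.1 (jj s).2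
  refine wt_eq_two_of_inv Nat.prime_five (by norm_num) (k := 1) (y := (jj P5 : Spor.HN)) (n := (jj I5 : Spor.HN))
    (hc _) (hc _) ?_ ?_ ?_
  · have h := congrArg (fun s => ((jj s : ↥(centralizer ({X5} : Set Spor.HN))) : Spor.HN)) P5_pow
    simpa using h
  · intro h
    exact P5_ne (jj_inj (Subtype.ext (by rw [h, map_one]; rfl)))
  · have h := congrArg (fun s => ((jj s : ↥(centralizer ({X5} : Set Spor.HN))) : Spor.HN)) P5_inv
    simpa using h

/-! ### the row -/

theorem ne_ab (σ : Spor.HN ≃* Spor.HN) : σ X5 ≠ ψ (hw w1) := by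
  intro h
  apply not_good
  have h1 := good_one FT h204
  rw [← h] at h1
  exact h1.congr (centEquiv σ X5).symm

theorem krow : KRow.{u, 0} 5 Spor.HN := by
  have := finite_hn
  have hs : IsSimpleGroup Spor.HN := Cfsg.Agent.S1701.result.1
  have hf : Fact (Nat.Prime 5) := ⟨Nat.prime_five⟩
  obtain ⟨b, g, hb, hc⟩ := H525.RO.HnElt.exists_order
  have hna : ∃ a b : Spor.HN, a * b ≠ b * a := by
    obtain ⟨a, -, b, -, hab⟩ := Cfsg.Agent.KFacts.HN.not_abelian
    exact ⟨a, b, hab⟩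
  refine krow_three (c := b * (g⁻¹ * b * g)) (not_compl_of_simple hna (by rw [card_hn]; norm_num))
    (el_of_prime Nat.prime_five order_X5) (el_of_prime Nat.prime_five order_b)
    (el_of_order (k := 2) Nat.prime_five (by norm_num) (by rw [hc]; norm_num)) ne_ab
    (ne_of_order (by rw [order_X5, hc]; norm_num)) (ne_of_order (by rw [order_b, hc]; norm_num))
    (na := 2) (nb := 2) (nc := 1) ?_ ?_ (wtGe_one _) (by norm_num)
  · rw [← wt_a]
    exact wtGe_wt _
  · rw [← wt_b]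
    exact wtGe_wt _

/-- **`HN`, `p = 5`.** -/
theorem _root_.Cfsg.Agent.H468.K6.hn_five {X : Type v} [Group X] (h : Spor.IsoHN X) : KRow.{u, v} 5 X := by
  obtain ⟨e⟩ := h
  exact KRow.congr e.symm krow

end Cfsg.Agent.H468.K6.HN
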