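import Cfsg.Agent.H468.K6.ToolsB
import Cfsg.Agent.H80.K6.Crit
import Cfsg.Agent.H725.Cov.HeFacts
import Cfsg.Agent.H19.Odd.HeEl7

/-!
# S4876, `p = 7`: the row of the Held group (helper468)

`wd X0` (centralizer `7 × L₂(7)`), `wd XC` (centralizer `7^{1+2} : 3`), `x1`.
-/

set_option autoImplicit false
set_option maxRecDepth 100000

open Cfsg

namespace Cfsg.Agent.H468.K6.He

open Cfsg.Agent.H61.K6 Cfsg.Agent.H80.K6 Cfsg.Agent.H468.K6
open Subgroup
open Cfsg.Spor.He (Gen)
open Cfsg.Agent.SporadicB.HePerm (act wd)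
open Cfsg.Agent.FixBN.HeStab Cfsg.Agent.KFacts.He.Lv Cfsg.Agent.CpAutHe.Cnt
open Cfsg.Agent.CpAutHe.Seven (ne_one_of_act x0 x1 order0 order1 simple_he)
open Cfsg.Agent.CpAutHe.Bound (X0)
open Cfsg.Agent.H19.Odd.HeEl Cfsg.Agent.H19.Odd.HeCnt

universe u v

def hC : List Gen := [.c, .e, .f, .d, .c, .b, .e, .d, .c, .d, .g, .d, .b, .c, .d, .f, .e, .b, .c]

def vC : List Gen := [.b, .a, .c, .d, .e, .f, .d, .c, .d, .g, .f, .d, .c, .d, .b, .c, .d, .g, .f, .d, .g, .c, .d]

def hO : List Gen := [.f, .d, .b, .c, .d, .f, .c, .d, .c, .d, .f, .c, .d, .c, .d, .c]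

def vO : List Gen := [.b, .c, .b, .e, .d, .c, .d, .c, .b, .f, .d, .g, .c, .d, .f, .e, .d, .b, .c, .d, .g, .f, .d, .b, .c,
  .d, .g]

theorem wtC : WtGe.{u, 0} 7 (wd XC) 2 := by
  have h7 : Fact (Nat.Prime 7) := ⟨by norm_num⟩
  have hv : orderOf (wd vC) = 7 := orderOf_of h7.out (pow_of_chk (by decide +kernel)) (ne_one_of_act 0 (by decide +kernel))
  have h1 : wd hC * wd vC * (wd hC)⁻¹ = wd (pw vC 4) := conj_of_chk (by decide +kernel)
  rw [wd_pw] at h1
  refine (epsGe_two_of (x := wd XC) (v := wd vC) (h := wd hC) (comm_of_chk (by decide +kernel)).eq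
    (comm_of_chk (by decide +kernel)).eq hv 4 h1 ?_).wtGe
  intro h2
  have h3 : wd vC ^ 3 = 1 := by
    have h4 : wd vC ^ 3 * wd vC = 1 * wd vC := by rw [one_mul, ← pow_succ]; exact h2
    exact mul_right_cancel h4
  have h5 := orderOf_dvd_of_pow_eq_one h3
  rw [hv] at h5
  omega

theorem wtO : WtGe.{u, 0} 7 (wd X0) 2 := by
  have h7 : Fact (Nat.Prime 7) := ⟨by norm_num⟩
  have hv : orderOf (wd vO) = 7 := orderOf_of h7.out (pow_of_chk (by decide +kernel)) (ne_one_of_act 0 (by decide +kernel))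
  have h1 : wd hO * wd vO * (wd hO)⁻¹ = wd (pw vO 2) := conj_of_chk (by decide +kernel)
  rw [wd_pw] at h1
  refine (epsGe_two_of (x := wd X0) (v := wd vO) (h := wd hO) (comm_of_chk (by decide +kernel)).eq
    (comm_of_chk (by decide +kernel)).eq hv 2 h1 ?_).wtGe
  intro h2
  have h3 : wd vO = 1 := by
    have h4 : wd vO * wd vO = 1 * wd vO := by rw [one_mul, ← pow_two]; exact h2
    exact mul_right_cancel h4
  rw [h3, orderOf_one] at hv
  omega

theorem krow : KRow.{u, 0} 7 Spor.He := by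
  have h7 : Fact (Nat.Prime 7) := ⟨by norm_num⟩
  have hfin := H725.CovHe.finHe
  have hs : IsSimpleGroup Spor.He := Cfsg.Agent.CpAutHe.Seven.simple_he
  have hXC : orderOf (wd XC) = 7 := orderOf_of h7.out C_pow C_ne
  have h0 := H725.CovHe.card_x0
  have h1 := H725.CovHe.card_x1
  have hC := dvdC
  refine krow_three (a := wd XC) (b := wd X0) (c := x1) (not_compl_of_card card_he (by norm_num) (by norm_num) (by norm_num))
    (el_of_prime h7.out hXC) (el_of_prime h7.out order0) (el_of_prime h7.out order1)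
    (ne_of_card ?_) (ne_of_card ?_) (ne_of_card ?_) wtC wtO (wtGe_one _) (by norm_num)
  · intro h
    rw [h] at hC
    have h0' : Nat.card ↥(centralizer ({wd X0} : Set Spor.He)) = 588 ∨
      Nat.card ↥(centralizer ({wd X0} : Set Spor.He)) = 1176 := h0
    rcases h0' with h2 | h2 <;> rw [h2] at hC <;> omega
  · intro h
    rw [h] at hC
    rcases h1 with h2 | h2 <;> rw [h2] at hC <;> omega
  · intro h
    have h0' : Nat.card ↥(centralizer ({wd X0} : Set Spor.He)) = 588 ∨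
      Nat.card ↥(centralizer ({wd X0} : Set Spor.He)) = 1176 := h0
    omega

/-- **The Held group, `p = 7`.** -/
theorem _root_.Cfsg.Agent.H468.K6.he_seven {X : Type v} [Group X] (h : Spor.IsoHe X) : KRow.{u, v} 7 X := by
  obtain ⟨e⟩ := h
  exact KRow.congr e.symm krow

end Cfsg.Agent.H468.K6.He
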