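import Cfsg.Agent.H468.K6.ToolsB
import Cfsg.Agent.H468.PW.MEleven
import Cfsg.Agent.H468.PW.Mon
import Cfsg.Agent.H525.RO.HnElt

/-!
# S4876, `p = 5`: the row of the Monster (helper468)

`v` with `C(v) / ⟨v⟩ ≅ HN`, an element of order 5 of fixed rank 0, and an element of 5-power order which is not 5.
-/

set_option autoImplicit false
set_option maxRecDepth 100000

open Cfsg

namespace Cfsg.Agent.H468.K6.MFive

open Cfsg.Agent.H61.K6 Cfsg.Agent.H241.Mon Cfsg.Agent.H468.K6 Cfsg.Agent.H514.DP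
open Cfsg.Agent.LThreeMB (fr XX KChart.pi KChart.chart toXX Zx)
open Cfsg.Agent.MonsterX
open Subgroup

universe u v

instance fact5 : Fact (Nat.Prime 5) := ⟨Nat.prime_five⟩

/-- the elements with `C(x) / ⟨x⟩ ≅ HN` -/
theorem wt_hn {x : Gam} (h : Spor.IsoHN (XX x)) : WtGe.{u, 0} 5 x 2 := by
  obtain ⟨e⟩ := h
  have hs : IsSimpleGroup (XX x) := (MulEquiv.isSimpleGroup_congr e).2 S1701.result.1
  have hc : Nat.card (XX x) = 273030912000000 := card_hn ⟨e⟩
  exact wtGe_two_of_quot (QuotientGroup.mk' (Zx x)) (QuotientGroup.mk'_surjective _)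
    (not_compl_of_card hc (by norm_num) (by norm_num) (by norm_num))

/-- the elements of fixed rank 0 -/
theorem wt_zero {x : centralizer ({KDone.K.z} : Set Gam)} (hx : orderOf x = 5)
    (hfr : fr (KChart.pi MFive.Row.hc x) = 1) : WtGe.{u, 0} 5 (x : Gam) 2 := by
  obtain ⟨e⟩ := CpAutBFive.Final.hJ (KChart.pi MFive.Row.hc x)
    (MFive.orderOf_pi chart Nat.prime_five (by decide) hx) hfr
  have hs : IsSimpleGroup (XX (KChart.pi MFive.Row.hc x)) := (MulEquiv.isSimpleGroup_congr e).2 Cfsg.Agent.S1620.result.1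
  have hc : Nat.card (XX (KChart.pi MFive.Row.hc x)) = 604800 := by
    rw [Nat.card_congr e.toEquiv, Cfsg.Agent.J2Sylow.SporSylow.card_J2]
  have hf : Finite (XX (KChart.pi MFive.Row.hc x)) := Nat.finite_of_card_ne_zero (by rw [hc]; norm_num)
  have hx5 : x ^ 5 = 1 := by rw [← hx, pow_orderOf_eq_one]
  exact wtGe_two_of_section (toXX (KChart.pi MFive.Row.hc) x)
    (Cfsg.Agent.MFive.toXX_surj chart Nat.prime_five (by decide) hx5)
    (not_compl_of_card hc (by norm_num) (by norm_num) (by norm_num))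

/-- an element of 5-power order greater than 5 -/
theorem exists_long : ∃ (x : Gam) (k : ℕ), orderOf x = 5 ^ k ∧ 2 ≤ k := by
  obtain ⟨v, -, -, ⟨e⟩⟩ := exists_hn
  have hs : IsSimpleGroup Spor.HN := Cfsg.Agent.S1701.result.1
  obtain ⟨b, g, -, hc⟩ := H525.RO.HnElt.exists_order
  obtain ⟨y, hy, hyc⟩ := H468.PWM.isPE_lift (p := 5) Nat.prime_five
    (q := e.toMonoidHom.comp (QuotientGroup.mk' (Zx (v : Gam))))
    (e.surjective.comp (QuotientGroup.mk'_surjective _)) (g := b * (g⁻¹ * b * g))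
    ⟨2, by rw [show (5 : ℕ) ^ 2 = 25 by norm_num, ← hc, pow_orderOf_eq_one]⟩
  obtain ⟨k, hk⟩ := hy
  obtain ⟨j, -, hj⟩ := (Nat.dvd_prime_pow Nat.prime_five).1 (orderOf_dvd_of_pow_eq_one hk)
  refine ⟨y, j, by rw [Subgroup.orderOf_coe, hj], ?_⟩
  have h1 := orderOf_map_dvd (e.toMonoidHom.comp (QuotientGroup.mk' (Zx (v : Gam)))) y
  rw [hyc, hc, hj, show (25 : ℕ) = 5 ^ 2 by norm_num] at h1
  exact (Nat.pow_dvd_pow_iff_le_right (by norm_num)).1 h1

theorem krow : KRow.{u, 0} 5 Gam := by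
  have hG' := hG
  obtain ⟨a, ha, -, hHN⟩ := exists_hn
  obtain ⟨b, hb, hfr⟩ := exists_five_zero
  obtain ⟨c, k, hc, hk⟩ := exists_long
  have ha' : orderOf (a : Gam) = 5 := by rw [Subgroup.orderOf_coe, ha]
  have hb' : orderOf (b : Gam) = 5 := by rw [Subgroup.orderOf_coe, hb]
  have hne : orderOf c ≠ 5 := by
    rw [hc]
    intro h
    have := (Nat.pow_right_injective (le_refl 2)).ne (show k ≠ 1 by omega)
    exact (Nat.pow_right_injective (show 2 ≤ 5 by norm_num)).ne (show k ≠ 1 by omega) (by simpa using h)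
  refine krow_three (c := c) (not_compl_of_card card_G (by norm_num) (by norm_num) (by norm_num))
    (el_of_prime Nat.prime_five ha') (el_of_prime Nat.prime_five hb')
    (el_of_order Nat.prime_five (by omega) hc) ?_ (ne_of_order (by rw [ha']; exact hne.symm))
    (ne_of_order (by rw [hb']; exact hne.symm)) (wt_hn hHN) (wt_zero hb hfr) (wtGe_one _) (by norm_num)
  refine ne_of_card fun h => ?_
  have h11 := (H199.AbMon.five_zero' hb hfr).1
  apply h11
  rw [← h, card_XX ha', card_hn hHN]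
  norm_num

/-- **The Monster, `p = 5`.** -/
theorem _root_.Cfsg.Agent.H468.K6.m_five {X : Type v} [Group X] (h : Spor.IsoM X) : KRow.{u, v} 5 X := by
  obtain ⟨e⟩ := h
  obtain ⟨f⟩ := Cfsg.Agent.MonsterP.Equiv.equiv
  exact KRow.congr (e.trans f).symm krow

end Cfsg.Agent.H468.K6.MFive
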