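import Cfsg.Agent.H80.K6.Crit
import Cfsg.Agent.H968.PQ.ON

/-!
# S4876, `p = 7`: the row of the O'Nan group (helper468)

The character of degree `52668 = 2² · 3² · 7 · 11 · 19` is in the principal 7-block: all others have degree divisible by 49.
-/

set_option autoImplicit false

open Cfsg Subgroup

namespace Cfsg.Agent.H468.K6.ON

open Cfsg.Agent.H61.K6 Cfsg.Agent.H474.ONC Cfsg.Agent.H315.RatB.ON
open Cfsg.Spor (ON)

universe u v

theorem krow : KRow.{u, 0} 7 ON := by
  have hfin : Finite ON := Cfsg.Agent.KFacts.ON.Cent.finite_ON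
  refine H80.K6.KRow.of_height (by norm_num) (by rw [card_ON]; norm_num) fun M hM => ?_
  obtain ⟨χ, hχ⟩ := H968.PQ.ON.deg H492.FactsON.exists_52668
  refine ⟨χ, ?_, ?_⟩
  · by_contra hcon
    have h3 := H968.PQ.ON.nb_seven M hM χ hcon
    rw [hχ] at h3
    revert h3
    norm_num
  · rw [hχ]
    norm_num

/-- **The O'Nan group, `p = 7`.** -/
theorem _root_.Cfsg.Agent.H468.K6.on_seven {X : Type v} [Group X] (h : Spor.IsoON X) : KRow.{u, v} 7 X := by
  obtain ⟨e⟩ := h
  exact KRow.congr e.symm krow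

end Cfsg.Agent.H468.K6.ON
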