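import Cfsg.Agent.H121.K6.Tools

/-!
# S4876: tools for the sporadic rows (helper468)

* `krow_one`, `krow_two`, `krow_three` : criterion W for one, two or three elements;
* `centEquiv` : the isomorphism of centralizers under an isomorphism;
* `el_of_order` : elements of order `p ^ k`, `0 < k`.
-/

set_option autoImplicit false

open Cfsg

namespace Cfsg.Agent.H468.K6

open Cfsg.Agent.H61.K6

universe u v w

theorem el_of_order {p k : ℕ} (hp : p.Prime) (hk : k ≠ 0) {X : Type*} [Group X] {x : X} (h : orderOf x = p ^ k) :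
    El p x := by
  refine ⟨⟨k, h⟩, ?_⟩
  rintro rfl
  rw [orderOf_one] at h
  exact (Nat.one_lt_pow hk hp.one_lt).ne h

theorem el_of_prime {p : ℕ} (hp : p.Prime) {X : Type*} [Group X] {x : X} (h : orderOf x = p) : El p x :=
  el_of_order hp one_ne_zero (by rw [h, pow_one])

section

variable {p : ℕ} {X : Type v} [Group X] [Finite X]

/-- three elements not conjugate under automorphisms -/
theorem krow_three (hX : ¬ HasNormalPComplement p X) {a b c : X} (ha : El p a) (hb : El p b) (hc : El p c)
    (hab : ∀ σ : X ≃* X, σ a ≠ b) (hac : ∀ σ : X ≃* X, σ a ≠ c) (hbc : ∀ σ : X ≃* X, σ b ≠ c) {na nb nc : ℕ}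
    (hna : WtGe.{u, v} p a na) (hnb : WtGe.{u, v} p b nb) (hnc : WtGe.{u, v} p c nc) (hn : 5 ≤ na + nb + nc) :
    KRow.{u, v} p X := by
  classical
  have h1 : a ≠ b := hab (MulEquiv.refl X)
  have h2 : a ≠ c := hac (MulEquiv.refl X)
  have h3 : b ≠ c := hbc (MulEquiv.refl X)
  have sym : ∀ {x y : X}, (∀ σ : X ≃* X, σ x ≠ y) → ∀ σ : X ≃* X, σ y ≠ x := fun {x y} h σ hσ =>
    h σ.symm (by rw [← hσ, σ.symm_apply_apply])
  refine KRow.of_weights hX {a, b, c} ?_ ?_ (fun x => if x = a then na else if x = b then nb else nc) ?_ ?_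
  · intro x hx
    simp only [Finset.mem_insert, Finset.mem_singleton] at hx
    rcases hx with rfl | rfl | rfl
    · exact ha
    · exact hb
    · exact hc
  · intro x hx y hy σ hσ
    simp only [Finset.mem_insert, Finset.mem_singleton] at hx hy
    rcases hx with rfl | rfl | rfl <;> rcases hy with rfl | rfl | rfl
    · rfl
    · exact absurd hσ (hab σ)
    · exact absurd hσ (hac σ)
    · exact absurd hσ (sym hab σ)
    · rfl
    · exact absurd hσ (hbc σ)
    · exact absurd hσ (sym hac σ)
    · exact absurd hσ (sym hbc σ)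
    · rfl
  · intro x hx
    simp only [Finset.mem_insert, Finset.mem_singleton] at hx
    rcases hx with rfl | rfl | rfl
    · rw [if_pos rfl]; exact hna
    · rw [if_neg h1.symm, if_pos rfl]; exact hnb
    · rw [if_neg h2.symm, if_neg h3.symm]; exact hnc
  · rw [Finset.sum_insert (by simp [h1, h2]), Finset.sum_insert (by simp [h3]), Finset.sum_singleton, if_pos rfl,
      if_neg h1.symm, if_pos rfl, if_neg h2.symm, if_neg h3.symm]
    omega

/-- two elements not conjugate under automorphisms -/
theorem krow_two (hX : ¬ HasNormalPComplement p X) {a b : X} (ha : El p a) (hb : El p b)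
    (hab : ∀ σ : X ≃* X, σ a ≠ b) {na nb : ℕ}
    (hna : WtGe.{u, v} p a na) (hnb : WtGe.{u, v} p b nb) (hn : 5 ≤ na + nb) : KRow.{u, v} p X := by
  classical
  have h1 : a ≠ b := hab (MulEquiv.refl X)
  refine KRow.of_weights hX {a, b} ?_ ?_ (fun x => if x = a then na else nb) ?_ ?_
  · intro x hx
    simp only [Finset.mem_insert, Finset.mem_singleton] at hx
    rcases hx with rfl | rfl
    · exact ha
    · exact hb
  · intro x hx y hy σ hσ
    simp only [Finset.mem_insert, Finset.mem_singleton] at hx hy
    rcases hx with rfl | rfl <;> rcases hy with rfl | rfl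
    · rfl
    · exact absurd hσ (hab σ)
    · exact absurd (show σ.symm y = x by rw [← hσ, σ.symm_apply_apply]) (hab σ.symm)
    · rfl
  · intro x hx
    simp only [Finset.mem_insert, Finset.mem_singleton] at hx
    rcases hx with rfl | rfl
    · rw [if_pos rfl]; exact hna
    · rw [if_neg h1.symm]; exact hnb
  · rw [Finset.sum_insert (by simp [h1]), Finset.sum_singleton, if_pos rfl, if_neg h1.symm]
    omega

/-- one element of weight at least 5 -/
theorem krow_one (hX : ¬ HasNormalPComplement p X) {a : X} (ha : El p a) {n : ℕ} (hna : WtGe.{u, v} p a n)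
    (hn : 5 ≤ n) : KRow.{u, v} p X := by
  classical
  refine KRow.of_weights hX {a} ?_ ?_ (fun _ => n) ?_ ?_
  · intro x hx
    rw [Finset.mem_singleton] at hx
    rw [hx]
    exact ha
  · intro x hx y hy σ _
    rw [Finset.mem_singleton] at hx hy
    rw [hx, hy]
  · intro x hx
    rw [Finset.mem_singleton] at hx
    rw [hx]
    exact hna
  · rw [Finset.sum_singleton]
    exact hn

end

/-- the isomorphism of the centralizers -/
noncomputable def centEquiv {X : Type v} {Y : Type w} [Group X] [Group Y] (σ : X ≃* Y) (x : X) :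
    ↥(Subgroup.centralizer ({x} : Set X)) ≃* ↥(Subgroup.centralizer ({σ x} : Set Y)) where
  toFun c := ⟨σ c, by
    rw [Subgroup.mem_centralizer_singleton_iff, ← map_mul, Subgroup.mem_centralizer_singleton_iff.1 c.2, map_mul]⟩
  invFun c := ⟨σ.symm c, by
    rw [Subgroup.mem_centralizer_singleton_iff]
    apply σ.injective
    rw [map_mul, map_mul, σ.apply_symm_apply]
    exact Subgroup.mem_centralizer_singleton_iff.1 c.2⟩
  left_inv c := Subtype.ext (σ.symm_apply_apply _)
  right_inv c := Subtype.ext (σ.apply_symm_apply _)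
  map_mul' a b := Subtype.ext (map_mul σ (a : X) b)

/-- automorphisms do not map elements of different orders to each other -/
theorem ne_of_order {X : Type*} [Group X] {a b : X} (h : orderOf a ≠ orderOf b) (σ : X ≃* X) : σ a ≠ b := by
  rintro rfl
  exact h (MulEquiv.orderOf_eq σ a).symm

/-- automorphisms preserve the orders of the centralizers -/
theorem ne_of_card {X : Type*} [Group X] {a b : X}
    (h : Nat.card ↥(Subgroup.centralizer ({a} : Set X)) ≠ Nat.card ↥(Subgroup.centralizer ({b} : Set X)))
    (σ : X ≃* X) : σ a ≠ b := by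
  rintro rfl
  exact h (card_centralizer_aut σ a).symm

end Cfsg.Agent.H468.K6
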