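import Cfsg.Agent.H468.K6.Tools
import Cfsg.Agent.Transfer.NormalPComplement
import Cfsg.Agent.H253.TwoComm.SporTool

/-!
# S4876: tools for the sporadic rows, II (helper468)

Weight 2 from a section or a quotient of the centralizer.
-/

set_option autoImplicit false

open Cfsg

namespace Cfsg.Agent.H468.K6

open Cfsg.Agent.H61.K6
open Subgroup

universe u v w

/-- weight 2 from a section of the centralizer -/
theorem wtGe_two_of_section {p : ℕ} [Fact p.Prime] {X : Type v} [Group X] [Finite X] {x : X}
    {K : Subgroup ↥(centralizer ({x} : Set X))} {A : Type w} [Group A] (f : K →* A) (hf : Function.Surjective f)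
    (hA : ¬ HasNormalPComplement p A) : WtGe.{u, v} p x 2 :=
  wtGe_two fun h => hA (Transfer.NormalPComplement.of_surjective f hf
    (Transfer.NormalPComplement.of_injective K.subtype K.subtype_injective h))

theorem wtGe_two_of_quot {p : ℕ} [Fact p.Prime] {X : Type v} [Group X] [Finite X] {x : X}
    {A : Type w} [Group A] (f : ↥(centralizer ({x} : Set X)) →* A) (hf : Function.Surjective f)
    (hA : ¬ HasNormalPComplement p A) : WtGe.{u, v} p x 2 :=
  wtGe_two fun h => hA (Transfer.NormalPComplement.of_surjective f hf h)

/-- simple groups with a known order -/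
theorem not_compl_of_card {p : ℕ} [hp : Fact p.Prime] {A : Type w} [Group A] [Finite A] [IsSimpleGroup A] {n : ℕ}
    (hn : Nat.card A = n) (h0 : n ≠ 0) (h1 : p ∣ n) (h2 : n ≠ p) : ¬ HasNormalPComplement p A := by
  have h3 := H253.TC.not_comm_of_card hn h0 hp.out h1 h2
  push Not at h3
  exact not_compl_of_simple h3 (hn ▸ h1)

end Cfsg.Agent.H468.K6
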